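/-
helper41: the abstract Fong-Wong configuration (S3211): a central product `L₁ L₂` of two
`SL₂`-like groups of index two in `C(j)`, interchanged by an element `n` with `n² = j`.
Then `j` is an isolated involution.  The proof compares the number of square roots of `j`
in `C(j) ∩ C(u)` with the number of square roots of `u` in `C(j)`.
-/
import Mathlib
import Cfsg.Prelude.Def_TwoFusion

set_option autoImplicit false

namespace Cfsg.Agent.Lib.Helper41.FW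

variable {G : Type*} [Group G]

/-- abstract Fong-Wong configuration -/
structure Hyp (L₁ L₂ : Subgroup G) (j n : G) : Prop where
  j2 : j * j = 1
  j1 : j ≠ 1
  jL₁ : j ∈ L₁
  jL₂ : j ∈ L₂
  comm : ∀ x ∈ L₁, ∀ y ∈ L₂, x * y = y * x
  meet : ∀ x, x ∈ L₁ → x ∈ L₂ → x = 1 ∨ x = j
  nj : n * j = j * n
  n2 : n * n = j
  sw₁ : ∀ x ∈ L₁, n * x * n⁻¹ ∈ L₂
  sw₂ : ∀ x ∈ L₂, n * x * n⁻¹ ∈ L₁
  dec : ∀ x, x * j = j * x → (∃ x₁ ∈ L₁, ∃ x₂ ∈ L₂, x = x₁ * x₂) ∨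
    (∃ x₁ ∈ L₁, ∃ x₂ ∈ L₂, x = n * (x₁ * x₂))
  P1 : ∀ y ∈ L₁, y * y = 1 → y = 1 ∨ y = j
  P2 : ∀ y ∈ L₁, ∀ y' ∈ L₁, y * y = y' * y' → (y * y) * (y * y) = j → y' = y ∨ y' = j * y
  P3 : ∀ a ∈ L₁, ∀ b ∈ L₁, a * a = j → b * b = j → ∃ x ∈ L₁, x * a * x⁻¹ = b

namespace Hyp

variable {L₁ L₂ : Subgroup G} {j n : G}

theorem jinv (h : Hyp L₁ L₂ j n) : j⁻¹ = j := inv_eq_of_mul_eq_one_right h.j2

theorem cen₁ (h : Hyp L₁ L₂ j n) {x : G} (hx : x ∈ L₁) : x * j = j * x := h.comm x hx j h.jL₂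

theorem cen₂ (h : Hyp L₁ L₂ j n) {y : G} (hy : y ∈ L₂) : y * j = j * y :=
  (h.comm j h.jL₁ y hy).symm

theorem sj (h : Hyp L₁ L₂ j n) : n * j * n⁻¹ = j := by
  rw [h.nj]; group

theorem ss (h : Hyp L₁ L₂ j n) {x : G} (hx : x * j = j * x) : n * (n * x * n⁻¹) * n⁻¹ = x := by
  have h1 : n * (n * x * n⁻¹) * n⁻¹ = (n * n) * x * (n * n)⁻¹ := by group
  rw [h1, h.n2, mul_inv_eq_iff_eq_mul, hx]

/-- the central product `L₁ L₂` -/
def M (h : Hyp L₁ L₂ j n) : Subgroup G where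
  carrier := {x | ∃ x₁ ∈ L₁, ∃ x₂ ∈ L₂, x = x₁ * x₂}
  one_mem' := ⟨1, L₁.one_mem, 1, L₂.one_mem, by simp⟩
  mul_mem' := by
    rintro _ _ ⟨x₁, hx₁, x₂, hx₂, rfl⟩ ⟨y₁, hy₁, y₂, hy₂, rfl⟩
    refine ⟨x₁ * y₁, L₁.mul_mem hx₁ hy₁, x₂ * y₂, L₂.mul_mem hx₂ hy₂, ?_⟩
    have hc := h.comm y₁ hy₁ x₂ hx₂
    calc x₁ * x₂ * (y₁ * y₂) = x₁ * (x₂ * y₁) * y₂ := by group
      _ = x₁ * (y₁ * x₂) * y₂ := by rw [hc]
      _ = x₁ * y₁ * (x₂ * y₂) := by group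
  inv_mem' := by
    rintro _ ⟨x₁, hx₁, x₂, hx₂, rfl⟩
    refine ⟨x₁⁻¹, L₁.inv_mem hx₁, x₂⁻¹, L₂.inv_mem hx₂, ?_⟩
    have hc := h.comm x₁⁻¹ (L₁.inv_mem hx₁) x₂⁻¹ (L₂.inv_mem hx₂)
    rw [mul_inv_rev, hc]

theorem mem_M (h : Hyp L₁ L₂ j n) {x : G} :
    x ∈ h.M ↔ ∃ x₁ ∈ L₁, ∃ x₂ ∈ L₂, x = x₁ * x₂ := Iff.rfl

theorem L₁_le_M (h : Hyp L₁ L₂ j n) {x : G} (hx : x ∈ L₁) : x ∈ h.M :=
  ⟨x, hx, 1, L₂.one_mem, by simp⟩

theorem L₂_le_M (h : Hyp L₁ L₂ j n) {x : G} (hx : x ∈ L₂) : x ∈ h.M :=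
  ⟨1, L₁.one_mem, x, hx, by simp⟩

theorem cenM (h : Hyp L₁ L₂ j n) {x : G} (hx : x ∈ h.M) : x * j = j * x := by
  obtain ⟨x₁, hx₁, x₂, hx₂, rfl⟩ := hx
  rw [mul_assoc, h.cen₂ hx₂, ← mul_assoc, h.cen₁ hx₁, mul_assoc]

theorem sM (h : Hyp L₁ L₂ j n) {x : G} (hx : x ∈ h.M) : n * x * n⁻¹ ∈ h.M := by
  obtain ⟨x₁, hx₁, x₂, hx₂, rfl⟩ := hx
  have h1 : n * (x₁ * x₂) * n⁻¹ = (n * x₁ * n⁻¹) * (n * x₂ * n⁻¹) := by group
  rw [h1]
  exact h.M.mul_mem (h.L₂_le_M (h.sw₁ x₁ hx₁)) (h.L₁_le_M (h.sw₂ x₂ hx₂))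

/-- `M` normalizes `L₁` -/
theorem conjL₁ (h : Hyp L₁ L₂ j n) {m x : G} (hm : m ∈ h.M) (hx : x ∈ L₁) :
    m * x * m⁻¹ ∈ L₁ := by
  obtain ⟨m₁, hm₁, m₂, hm₂, rfl⟩ := hm
  have hc := h.comm x hx m₂ hm₂
  have h1 : m₁ * m₂ * x * (m₁ * m₂)⁻¹ = m₁ * x * m₁⁻¹ := by
    calc m₁ * m₂ * x * (m₁ * m₂)⁻¹ = m₁ * (m₂ * x) * m₂⁻¹ * m₁⁻¹ := by group
      _ = m₁ * (x * m₂) * m₂⁻¹ * m₁⁻¹ := by rw [hc]
      _ = m₁ * x * m₁⁻¹ := by group
  rw [h1]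
  exact L₁.mul_mem (L₁.mul_mem hm₁ hx) (L₁.inv_mem hm₁)

/-- `M` normalizes `L₂` -/
theorem conjL₂ (h : Hyp L₁ L₂ j n) {m x : G} (hm : m ∈ h.M) (hx : x ∈ L₂) :
    m * x * m⁻¹ ∈ L₂ := by
  obtain ⟨m₁, hm₁, m₂, hm₂, rfl⟩ := hm
  have hc := h.comm m₁ hm₁ (m₂ * x * m₂⁻¹) (L₂.mul_mem (L₂.mul_mem hm₂ hx) (L₂.inv_mem hm₂))
  have h1 : m₁ * m₂ * x * (m₁ * m₂)⁻¹ = m₂ * x * m₂⁻¹ := by
    calc m₁ * m₂ * x * (m₁ * m₂)⁻¹ = (m₁ * (m₂ * x * m₂⁻¹)) * m₁⁻¹ := by group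
      _ = ((m₂ * x * m₂⁻¹) * m₁) * m₁⁻¹ := by rw [hc]
      _ = m₂ * x * m₂⁻¹ := by group
  rw [h1]
  exact L₂.mul_mem (L₂.mul_mem hm₂ hx) (L₂.inv_mem hm₂)

/-- elements of `L₁ ∩ L₂` are central in `C(j)`-computations: they are `1` or `j`. -/
theorem meet_sq (h : Hyp L₁ L₂ j n) {w : G} (h1 : w ∈ L₁) (h2 : w ∈ L₂) : w * w = 1 := by
  rcases h.meet w h1 h2 with rfl | rfl
  · simp
  · exact h.j2

theorem meet_s (h : Hyp L₁ L₂ j n) {w : G} (h1 : w ∈ L₁) (h2 : w ∈ L₂) : n * w * n⁻¹ = w := by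
  rcases h.meet w h1 h2 with rfl | rfl
  · simp
  · exact h.sj

/-- (0): no involutions in the coset `n M`. -/
theorem no_invol (h : Hyp L₁ L₂ j n) {m : G} (hm : m ∈ h.M) : (n * m) * (n * m) ≠ 1 := by
  intro hsq
  obtain ⟨x₁, hx₁, x₂, hx₂, rfl⟩ := hm
  set b₁ := n * x₁ * n⁻¹ with hb₁
  set b₂ := n * x₂ * n⁻¹ with hb₂
  have hb₁L : b₁ ∈ L₂ := h.sw₁ x₁ hx₁
  have hb₂L : b₂ ∈ L₁ := h.sw₂ x₂ hx₂
  -- the square is `j * (b₂ x₁) * (b₁ x₂)`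
  have hw₁ : b₂ * x₁ ∈ L₁ := L₁.mul_mem hb₂L hx₁
  have hw₂ : b₁ * x₂ ∈ L₂ := L₂.mul_mem hb₁L hx₂
  have e1 : (n * (x₁ * x₂)) * (n * (x₁ * x₂)) = j * ((b₂ * x₁) * (b₁ * x₂)) := by
    have c1 := h.comm b₂ hb₂L b₁ hb₁L
    have c2 := h.comm x₁ hx₁ b₁ hb₁L
    calc (n * (x₁ * x₂)) * (n * (x₁ * x₂))
        = (n * x₁ * n⁻¹) * (n * x₂ * n⁻¹) * (n * n) * (x₁ * x₂) := by group
      _ = b₁ * b₂ * j * (x₁ * x₂) := by rw [h.n2]
      _ = b₁ * (b₂ * j) * (x₁ * x₂) := by group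
      _ = b₁ * (j * b₂) * (x₁ * x₂) := by rw [h.cen₁ hb₂L]
      _ = (b₁ * j) * b₂ * (x₁ * x₂) := by group
      _ = (j * b₁) * b₂ * (x₁ * x₂) := by rw [h.cen₂ hb₁L]
      _ = j * (b₁ * b₂) * (x₁ * x₂) := by group
      _ = j * (b₂ * b₁) * (x₁ * x₂) := by rw [c1]
      _ = j * (b₂ * (b₁ * x₁) * x₂) := by group
      _ = j * (b₂ * (x₁ * b₁) * x₂) := by rw [c2]
      _ = j * ((b₂ * x₁) * (b₁ * x₂)) := by group
  rw [e1] at hsq
  -- `w₁ = j * w₂⁻¹`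
  have e2 : b₂ * x₁ = j * (b₁ * x₂)⁻¹ := by
    have : (b₂ * x₁) * (b₁ * x₂) = j := by
      have := congrArg (fun t => j * t) hsq
      simp only [mul_one] at this
      rw [← mul_assoc, h.j2, one_mul] at this
      exact this
    rw [← this]; group
  have hw₁' : b₂ * x₁ ∈ L₂ := by
    rw [e2]; exact L₂.mul_mem h.jL₂ (L₂.inv_mem hw₂)
  -- `σ w₂ = x₁ w₁ x₁⁻¹ = w₁`
  have e3 : n * (b₁ * x₂) * n⁻¹ = x₁ * (b₂ * x₁) * x₁⁻¹ := by
    have : n * (b₁ * x₂) * n⁻¹ = (n * b₁ * n⁻¹) * b₂ := by rw [hb₂]; group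
    rw [this, hb₁, h.ss (h.cen₁ hx₁)]; group
  have hcen : x₁ * (b₂ * x₁) * x₁⁻¹ = b₂ * x₁ := by
    rcases h.meet _ hw₁ hw₁' with e | e
    · rw [e]; group
    · rw [e, h.cen₁ hx₁]; group
  have e4 : n * (b₁ * x₂) * n⁻¹ = n * (b₂ * x₁) * n⁻¹ := by
    rw [e3, hcen, h.meet_s hw₁ hw₁']
  have e5 : b₁ * x₂ = b₂ * x₁ := by
    have : n⁻¹ * (n * (b₁ * x₂) * n⁻¹) * n = n⁻¹ * (n * (b₂ * x₁) * n⁻¹) * n := by rw [e4]
    have g1 : ∀ t : G, n⁻¹ * (n * t * n⁻¹) * n = t := fun t => by group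
    rwa [g1, g1] at this
  rw [e5, h.meet_sq hw₁ hw₁', mul_one] at hsq
  exact h.j1 hsq

/-- conjugation by `n` undone -/
theorem s_inj (_h : Hyp L₁ L₂ j n) {x y : G} (hxy : n * x * n⁻¹ = n * y * n⁻¹) : x = y := by
  have : n⁻¹ * (n * x * n⁻¹) * n = n⁻¹ * (n * y * n⁻¹) * n := by rw [hxy]
  have g1 : ∀ t : G, n⁻¹ * (n * t * n⁻¹) * n = t := fun t => by group
  rwa [g1, g1] at this

theorem s_mul (x y : G) (n : G) : n * (x * y) * n⁻¹ = (n * x * n⁻¹) * (n * y * n⁻¹) := by group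

theorem s_inv (x : G) (n : G) : n * x⁻¹ * n⁻¹ = (n * x * n⁻¹)⁻¹ := by group

/-- (P1) for `L₂` -/
theorem P1' (h : Hyp L₁ L₂ j n) {y : G} (hy : y ∈ L₂) (hyy : y * y = 1) : y = 1 ∨ y = j := by
  have h1 : (n * y * n⁻¹) * (n * y * n⁻¹) = 1 := by
    rw [← s_mul, hyy]; group
  rcases h.P1 _ (h.sw₂ y hy) h1 with e | e
  · left
    apply h.s_inj
    rw [e]; group
  · right
    apply h.s_inj
    rw [e, h.sj]

/-- (P2) for `L₂` -/
theorem P2' (h : Hyp L₁ L₂ j n) {y y' : G} (hy : y ∈ L₂) (hy' : y' ∈ L₂)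
    (heq : y * y = y' * y') (h4 : (y * y) * (y * y) = j) : y' = y ∨ y' = j * y := by
  have h1 : (n * y * n⁻¹) * (n * y * n⁻¹) = (n * y' * n⁻¹) * (n * y' * n⁻¹) := by
    rw [← s_mul, ← s_mul, heq]
  have h2 : ((n * y * n⁻¹) * (n * y * n⁻¹)) * ((n * y * n⁻¹) * (n * y * n⁻¹)) = j := by
    rw [← s_mul, ← s_mul, h4, h.sj]
  rcases h.P2 _ (h.sw₂ y hy) _ (h.sw₂ y' hy') h1 h2 with e | e
  · left; exact h.s_inj e
  · right
    apply h.s_inj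
    rw [e, s_mul, h.sj]

/-- (P3) for `L₂` -/
theorem P3' (h : Hyp L₁ L₂ j n) {a b : G} (ha : a ∈ L₂) (hb : b ∈ L₂)
    (haa : a * a = j) (hbb : b * b = j) : ∃ x ∈ L₂, x * a * x⁻¹ = b := by
  have h1 : (n * a * n⁻¹) * (n * a * n⁻¹) = j := by rw [← s_mul, haa, h.sj]
  have h2 : (n * b * n⁻¹) * (n * b * n⁻¹) = j := by rw [← s_mul, hbb, h.sj]
  obtain ⟨x, hx, hxe⟩ := h.P3 _ (h.sw₂ a ha) _ (h.sw₂ b hb) h1 h2
  refine ⟨n * x * n⁻¹, h.sw₁ x hx, ?_⟩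
  have h3 : n * (x * (n * a * n⁻¹) * x⁻¹) * n⁻¹ = n * (n * b * n⁻¹) * n⁻¹ := by rw [hxe]
  rw [h.ss (h.cen₂ hb)] at h3
  rw [← h3, s_mul, s_mul, h.ss (h.cen₂ ha), s_inv]

/-- `n ∉ M` as soon as `L₁` has an element of order four -/
theorem n_notin_M (h : Hyp L₁ L₂ j n) {a : G} (ha : a ∈ L₁) (haa : a * a = j) : n ∉ h.M := by
  intro hn
  have h1 : n * a * n⁻¹ ∈ L₁ := h.conjL₁ hn ha
  have h2 : n * a * n⁻¹ ∈ L₂ := h.sw₁ a ha
  have h3 := h.meet_sq h1 h2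
  rw [← s_mul, haa, h.sj] at h3
  exact h.j1 h3

/-- (1): the involutions of `C(j)` other than `j` are the products `a₁ a₂` of elements
of order four. -/
theorem invol_form (h : Hyp L₁ L₂ j n) {u : G} (huj : u * j = j * u) (hu2 : u * u = 1)
    (hu1 : u ≠ 1) (hujne : u ≠ j) :
    ∃ a₁ ∈ L₁, ∃ a₂ ∈ L₂, a₁ * a₁ = j ∧ a₂ * a₂ = j ∧ u = a₁ * a₂ := by
  rcases h.dec u huj with ⟨x₁, hx₁, x₂, hx₂, rfl⟩ | ⟨x₁, hx₁, x₂, hx₂, rfl⟩
  · have hc := h.comm x₁ hx₁ x₂ hx₂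
    have e1 : (x₁ * x₁) * (x₂ * x₂) = 1 := by
      calc (x₁ * x₁) * (x₂ * x₂) = x₁ * (x₁ * x₂) * x₂ := by group
        _ = x₁ * (x₂ * x₁) * x₂ := by rw [hc]
        _ = (x₁ * x₂) * (x₁ * x₂) := by group
        _ = 1 := hu2
    have e2 : x₁ * x₁ = (x₂ * x₂)⁻¹ := eq_inv_of_mul_eq_one_left e1
    have m1 : x₁ * x₁ ∈ L₁ := L₁.mul_mem hx₁ hx₁
    have m2 : x₁ * x₁ ∈ L₂ := by rw [e2]; exact L₂.inv_mem (L₂.mul_mem hx₂ hx₂)
    rcases h.meet _ m1 m2 with e | e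
    · exfalso
      have e3 : x₂ * x₂ = 1 := by rw [e, one_mul] at e1; exact e1
      rcases h.P1 x₁ hx₁ e with r1 | r1 <;> rcases h.P1' hx₂ e3 with r2 | r2
      · apply hu1; rw [r1, r2, one_mul]
      · apply hujne; rw [r1, r2, one_mul]
      · apply hujne; rw [r1, r2, mul_one]
      · apply hu1; rw [r1, r2, h.j2]
    · refine ⟨x₁, hx₁, x₂, hx₂, e, ?_, rfl⟩
      rw [e] at e1
      have : j * (j * (x₂ * x₂)) = j * 1 := by rw [e1]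
      rw [← mul_assoc, h.j2, one_mul, mul_one] at this
      exact this
  · exact absurd hu2 (h.no_invol ⟨x₁, hx₁, x₂, hx₂, rfl⟩)

/-- (2): every involution `a₁ a₂` is conjugate in `C(j)` to `a * (n a n⁻¹)`. -/
theorem conj_u0 (h : Hyp L₁ L₂ j n) {a : G} (ha : a ∈ L₁) (haa : a * a = j)
    {a₁ a₂ : G} (ha₁ : a₁ ∈ L₁) (ha₂ : a₂ ∈ L₂) (h1 : a₁ * a₁ = j) (h2 : a₂ * a₂ = j) :
    ∃ c : G, c * j = j * c ∧ c * (a₁ * a₂) * c⁻¹ = a * (n * a * n⁻¹) := by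
  obtain ⟨x₁, hx₁, e1⟩ := h.P3 a₁ ha₁ a ha h1 haa
  have hbb : (n * a * n⁻¹) * (n * a * n⁻¹) = j := by rw [← s_mul, haa, h.sj]
  obtain ⟨x₂, hx₂, e2⟩ := h.P3' ha₂ (h.sw₁ a ha) h2 hbb
  refine ⟨x₁ * x₂, h.cenM ⟨x₁, hx₁, x₂, hx₂, rfl⟩, ?_⟩
  have c1 := h.comm a₁ ha₁ x₂ hx₂
  have c2 := h.comm x₁⁻¹ (L₁.inv_mem hx₁) (x₂ * a₂ * x₂⁻¹)
    (L₂.mul_mem (L₂.mul_mem hx₂ ha₂) (L₂.inv_mem hx₂))
  calc x₁ * x₂ * (a₁ * a₂) * (x₁ * x₂)⁻¹
      = x₁ * (x₂ * a₁) * a₂ * x₂⁻¹ * x₁⁻¹ := by group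
    _ = x₁ * (a₁ * x₂) * a₂ * x₂⁻¹ * x₁⁻¹ := by rw [c1]
    _ = x₁ * a₁ * ((x₂ * a₂ * x₂⁻¹) * x₁⁻¹) := by group
    _ = x₁ * a₁ * (x₁⁻¹ * (x₂ * a₂ * x₂⁻¹)) := by rw [c2]
    _ = (x₁ * a₁ * x₁⁻¹) * (x₂ * a₂ * x₂⁻¹) := by group
    _ = a * (n * a * n⁻¹) := by rw [e1, e2]

/-- two decompositions with the same squares differ by `j` at most -/
theorem same_type (h : Hyp L₁ L₂ j n) {x₁ y₁ x₂ y₂ : G} (hx₁ : x₁ ∈ L₁) (hy₁ : y₁ ∈ L₁)
    (hx₂ : x₂ ∈ L₂) (hy₂ : y₂ ∈ L₂) (e1 : x₁ * x₁ = y₁ * y₁) (e2 : x₂ * x₂ = y₂ * y₂)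
    (f1 : (x₁ * x₁) * (x₁ * x₁) = j) (f2 : (x₂ * x₂) * (x₂ * x₂) = j) :
    y₁ * y₂ = x₁ * x₂ ∨ y₁ * y₂ = j * (x₁ * x₂) := by
  rcases h.P2 x₁ hx₁ y₁ hy₁ e1 f1 with r1 | r1 <;> rcases h.P2' hx₂ hy₂ e2 f2 with r2 | r2
  · left; rw [r1, r2]
  · right; rw [r1, r2, ← mul_assoc, h.cen₁ hx₁, mul_assoc]
  · right; rw [r1, r2, mul_assoc]
  · left
    rw [r1, r2]
    calc j * x₁ * (j * x₂) = j * (x₁ * j) * x₂ := by group
      _ = j * (j * x₁) * x₂ := by rw [h.cen₁ hx₁]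
      _ = (j * j) * x₁ * x₂ := by group
      _ = x₁ * x₂ := by rw [h.j2, one_mul]

/-- the two possible types of a square root of `a b` in `M` -/
theorem sq_split (h : Hyp L₁ L₂ j n) {a b : G} (ha : a ∈ L₁) (hb : b ∈ L₂)
    {x₁ x₂ : G} (hx₁ : x₁ ∈ L₁) (hx₂ : x₂ ∈ L₂) (hsq : (x₁ * x₂) * (x₁ * x₂) = a * b) :
    (x₁ * x₁ = a ∧ x₂ * x₂ = b) ∨ (x₁ * x₁ = a * j ∧ x₂ * x₂ = b * j) := by
  have hc := h.comm x₁ hx₁ x₂ hx₂
  have e1 : (x₁ * x₁) * (x₂ * x₂) = a * b := by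
    calc (x₁ * x₁) * (x₂ * x₂) = x₁ * (x₁ * x₂) * x₂ := by group
      _ = x₁ * (x₂ * x₁) * x₂ := by rw [hc]
      _ = (x₁ * x₂) * (x₁ * x₂) := by group
      _ = a * b := hsq
  have e2 : a⁻¹ * (x₁ * x₁) = b * (x₂ * x₂)⁻¹ := by
    calc a⁻¹ * (x₁ * x₁) = a⁻¹ * ((x₁ * x₁) * (x₂ * x₂)) * (x₂ * x₂)⁻¹ := by group
      _ = a⁻¹ * (a * b) * (x₂ * x₂)⁻¹ := by rw [e1]
      _ = b * (x₂ * x₂)⁻¹ := by group
  have m1 : a⁻¹ * (x₁ * x₁) ∈ L₁ := L₁.mul_mem (L₁.inv_mem ha) (L₁.mul_mem hx₁ hx₁)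
  have m2 : a⁻¹ * (x₁ * x₁) ∈ L₂ := by
    rw [e2]; exact L₂.mul_mem hb (L₂.inv_mem (L₂.mul_mem hx₂ hx₂))
  rcases h.meet _ m1 m2 with e | e
  · left
    have e3 : x₁ * x₁ = a := by
      calc x₁ * x₁ = a * (a⁻¹ * (x₁ * x₁)) := by group
        _ = a := by rw [e, mul_one]
    refine ⟨e3, ?_⟩
    rw [e3] at e1
    exact mul_left_cancel e1
  · right
    have e3 : x₁ * x₁ = a * j := by
      calc x₁ * x₁ = a * (a⁻¹ * (x₁ * x₁)) := by group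
        _ = a * j := by rw [e]
    refine ⟨e3, ?_⟩
    rw [e3] at e1
    have e4 : j * (x₂ * x₂) = b := by
      apply mul_left_cancel (a := a)
      rw [← mul_assoc]; exact e1
    calc x₂ * x₂ = (j * j) * (x₂ * x₂) := by rw [h.j2, one_mul]
      _ = j * (j * (x₂ * x₂)) := by group
      _ = j * b := by rw [e4]
      _ = b * j := (h.cen₂ hb).symm

omit [Group G] in
theorem ncard_four_le (a b c d : G) : ({a, b, c, d} : Set G).ncard ≤ 4 := by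
  have h1 : ({a, b, c, d} : Set G).ncard ≤ ({b, c, d} : Set G).ncard + 1 :=
    Set.ncard_insert_le _ _
  have h2 : ({b, c, d} : Set G).ncard ≤ ({c, d} : Set G).ncard + 1 :=
    Set.ncard_insert_le _ _
  have h3 : ({c, d} : Set G).ncard ≤ ({d} : Set G).ncard + 1 :=
    Set.ncard_insert_le _ _
  rw [Set.ncard_singleton] at h3
  omega

/-- the square roots of `a * b` inside `M`: at most four. -/
theorem ncard_XM_le [Finite G] (h : Hyp L₁ L₂ j n) {a b : G} (ha : a ∈ L₁) (hb : b ∈ L₂)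
    (haa : a * a = j) (hbb : b * b = j) :
    {x : G | x * x = a * b ∧ x ∈ h.M}.ncard ≤ 4 := by
  by_cases hne : {x : G | x * x = a * b ∧ x ∈ h.M}.Nonempty
  · obtain ⟨x0, hx0sq, x₁, hx₁, x₂, hx₂, rfl⟩ := hne
    have caj : a * j = j * a := h.cen₁ ha
    have cbj : b * j = j * b := h.cen₂ hb
    have hsub : {x : G | x * x = a * b ∧ x ∈ h.M} ⊆
        {x₁ * x₂, j * (x₁ * x₂), (x₁ * x₂)⁻¹, j * (x₁ * x₂)⁻¹} := by
      rintro x' ⟨hx'sq, y₁, hy₁, y₂, hy₂, rfl⟩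
      simp only [Set.mem_insert_iff, Set.mem_singleton_iff]
      have faj : (a * j) * (a * j) = j := by
        calc (a * j) * (a * j) = a * (j * a) * j := by group
          _ = a * (a * j) * j := by rw [caj]
          _ = (a * a) * (j * j) := by group
          _ = j := by rw [haa, h.j2, mul_one]
      have fbj : (b * j) * (b * j) = j := by
        calc (b * j) * (b * j) = b * (j * b) * j := by group
          _ = b * (b * j) * j := by rw [cbj]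
          _ = (b * b) * (j * j) := by group
          _ = j := by rw [hbb, h.j2, mul_one]
      have iaj : (a * j)⁻¹ = a := by
        apply inv_eq_of_mul_eq_one_right
        calc a * j * a = a * (j * a) := by group
          _ = a * (a * j) := by rw [caj]
          _ = (a * a) * j := by group
          _ = 1 := by rw [haa, h.j2]
      have ibj : (b * j)⁻¹ = b := by
        apply inv_eq_of_mul_eq_one_right
        calc b * j * b = b * (j * b) := by group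
          _ = b * (b * j) := by rw [cbj]
          _ = (b * b) * j := by group
          _ = 1 := by rw [hbb, h.j2]
      have ia : a⁻¹ = a * j := by
        apply inv_eq_of_mul_eq_one_right
        rw [← mul_assoc, haa, h.j2]
      have ib : b⁻¹ = b * j := by
        apply inv_eq_of_mul_eq_one_right
        rw [← mul_assoc, hbb, h.j2]
      have hyc := h.comm y₁ hy₁ y₂ hy₂
      have hxc := h.comm x₁ hx₁ x₂ hx₂
      -- inverse of `y₁ y₂`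
      have hinv : y₁ * y₂ = (y₁⁻¹ * y₂⁻¹)⁻¹ := by
        rw [mul_inv_rev, inv_inv, inv_inv, hyc]
      have hjinv : (j * (x₁ * x₂))⁻¹ = j * (x₁ * x₂)⁻¹ := by
        have hcm := h.cenM (h.M.inv_mem ⟨x₁, hx₁, x₂, hx₂, rfl⟩)
        rw [mul_inv_rev, h.jinv, hcm]
      have sqi : ∀ t : G, t⁻¹ * t⁻¹ = (t * t)⁻¹ := fun t => by group
      rcases h.sq_split ha hb hx₁ hx₂ hx0sq with ⟨p1, p2⟩ | ⟨p1, p2⟩ <;>
        rcases h.sq_split ha hb hy₁ hy₂ hx'sq with ⟨q1, q2⟩ | ⟨q1, q2⟩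
      · rcases h.same_type hx₁ hy₁ hx₂ hy₂ (by rw [p1, q1]) (by rw [p2, q2])
          (by rw [p1]; exact haa) (by rw [p2]; exact hbb) with r | r
        · left; exact r
        · right; left; exact r
      · rcases h.same_type hx₁ (L₁.inv_mem hy₁) hx₂ (L₂.inv_mem hy₂)
          (by rw [sqi, q1, iaj, p1]) (by rw [sqi, q2, ibj, p2])
          (by rw [p1]; exact haa) (by rw [p2]; exact hbb) with r | r
        · right; right; left; rw [hinv, r]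
        · right; right; right; rw [hinv, r, hjinv]
      · rcases h.same_type hx₁ (L₁.inv_mem hy₁) hx₂ (L₂.inv_mem hy₂)
          (by rw [sqi, q1, ia, p1]) (by rw [sqi, q2, ib, p2])
          (by rw [p1]; exact faj) (by rw [p2]; exact fbj) with r | r
        · right; right; left; rw [hinv, r]
        · right; right; right; rw [hinv, r, hjinv]
      · rcases h.same_type hx₁ hy₁ hx₂ hy₂ (by rw [p1, q1]) (by rw [p2, q2])
          (by rw [p1]; exact faj) (by rw [p2]; exact fbj) with r | r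
        · left; exact r
        · right; left; exact r
    exact (Set.ncard_le_ncard hsub (Set.toFinite _)).trans (ncard_four_le _ _ _ _)
  · rw [Set.not_nonempty_iff_eq_empty] at hne
    rw [hne, Set.ncard_empty]
    omega

/-- the injection `x ↦ x b⁻¹` from the square roots of `a b` in `n M` to the square roots
of `j` in `n M` commuting with `a b` (`b = n a n⁻¹`). -/
theorem phi_mem (h : Hyp L₁ L₂ j n) {a : G} (ha : a ∈ L₁)
    {x : G} (hxsq : x * x = a * (n * a * n⁻¹)) (hxM : n⁻¹ * x ∈ h.M) :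
    (x * (n * a * n⁻¹)⁻¹) * (x * (n * a * n⁻¹)⁻¹) = j ∧
    (x * (n * a * n⁻¹)⁻¹) * (a * (n * a * n⁻¹)) = (a * (n * a * n⁻¹)) * (x * (n * a * n⁻¹)⁻¹) ∧
    n⁻¹ * (x * (n * a * n⁻¹)⁻¹) ∈ h.M := by
  set b := n * a * n⁻¹ with hb
  have hbL : b ∈ L₂ := h.sw₁ a ha
  have hab : a * b = b * a := h.comm a ha b hbL
  have hx : x = n * (n⁻¹ * x) := by group
  -- membership in the coset
  have hM' : n⁻¹ * (x * b⁻¹) ∈ h.M := by
    have : n⁻¹ * (x * b⁻¹) = (n⁻¹ * x) * b⁻¹ := by group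
    rw [this]
    exact h.M.mul_mem hxM (h.M.inv_mem (h.L₂_le_M hbL))
  -- `p = x b x⁻¹ ∈ L₁`, `r = x a x⁻¹ ∈ L₂`
  have hp : x * b * x⁻¹ ∈ L₁ := by
    have : x * b * x⁻¹ = n * ((n⁻¹ * x) * b * (n⁻¹ * x)⁻¹) * n⁻¹ := by group
    rw [this]
    exact h.sw₂ _ (h.conjL₂ hxM hbL)
  have hr : x * a * x⁻¹ ∈ L₂ := by
    have : x * a * x⁻¹ = n * ((n⁻¹ * x) * a * (n⁻¹ * x)⁻¹) * n⁻¹ := by group
    rw [this]
    exact h.sw₁ _ (h.conjL₁ hxM ha)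
  have hrp : (x * a * x⁻¹) * (x * b * x⁻¹) = a * b := by
    calc (x * a * x⁻¹) * (x * b * x⁻¹) = x * (a * b) * x⁻¹ := by group
      _ = x * (x * x) * x⁻¹ := by rw [hxsq]
      _ = x * x := by group
      _ = a * b := hxsq
  -- `w = p⁻¹ a`
  have hw₁ : (x * b * x⁻¹)⁻¹ * a ∈ L₁ := L₁.mul_mem (L₁.inv_mem hp) ha
  have hw₂ : (x * b * x⁻¹)⁻¹ * a ∈ L₂ := by
    have c1 := h.comm a ha (x * a * x⁻¹) hr
    have : (x * b * x⁻¹)⁻¹ * a = b⁻¹ * (x * a * x⁻¹) := by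
      calc (x * b * x⁻¹)⁻¹ * a
          = (x * b * x⁻¹)⁻¹ * (x * a * x⁻¹)⁻¹ * ((x * a * x⁻¹) * a) := by group
        _ = ((x * a * x⁻¹) * (x * b * x⁻¹))⁻¹ * ((x * a * x⁻¹) * a) := by group
        _ = (a * b)⁻¹ * (a * (x * a * x⁻¹)) := by rw [hrp, c1]
        _ = b⁻¹ * (x * a * x⁻¹) := by group
    rw [this]
    exact L₂.mul_mem (L₂.inv_mem hbL) hr
  have hsq : (x * b⁻¹) * (x * b⁻¹) = (x * b * x⁻¹)⁻¹ * a := by
    calc (x * b⁻¹) * (x * b⁻¹) = (x * b * x⁻¹)⁻¹ * (x * x) * b⁻¹ := by group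
      _ = (x * b * x⁻¹)⁻¹ * (a * b) * b⁻¹ := by rw [hxsq]
      _ = (x * b * x⁻¹)⁻¹ * a := by group
  refine ⟨?_, ?_, hM'⟩
  · rcases h.meet _ hw₁ hw₂ with e | e
    · exfalso
      have hni := h.no_invol hM'
      apply hni
      have : n * (n⁻¹ * (x * b⁻¹)) = x * b⁻¹ := by group
      rw [this, hsq, e]
    · rw [hsq, e]
  · -- commutation with `a b`
    have c1 : x * (a * b) = (a * b) * x := by rw [← hxsq]; group
    have c2 : b⁻¹ * (a * b) = (a * b) * b⁻¹ := by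
      calc b⁻¹ * (a * b) = b⁻¹ * (b * a) := by rw [hab]
        _ = (a * b) * b⁻¹ := by group
    calc x * b⁻¹ * (a * b) = x * (b⁻¹ * (a * b)) := by group
      _ = x * ((a * b) * b⁻¹) := by rw [c2]
      _ = (x * (a * b)) * b⁻¹ := by group
      _ = ((a * b) * x) * b⁻¹ := by rw [c1]
      _ = a * b * (x * b⁻¹) := by group

/-- the main inequality -/
theorem count_lt [Finite G] (h : Hyp L₁ L₂ j n) {a : G} (ha : a ∈ L₁) (haa : a * a = j) :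
    {x : G | x * x = a * (n * a * n⁻¹) ∧ x * j = j * x}.ncard <
    {x : G | x * x = j ∧ x * (a * (n * a * n⁻¹)) = (a * (n * a * n⁻¹)) * x}.ncard := by
  set b := n * a * n⁻¹ with hb
  have hbL : b ∈ L₂ := h.sw₁ a ha
  have hbb : b * b = j := by rw [hb, ← s_mul, haa, h.sj]
  have hab : a * b = b * a := h.comm a ha b hbL
  have hnM := h.n_notin_M ha haa
  set XN : Set G := {x : G | x * x = a * b ∧ n⁻¹ * x ∈ h.M} with hXN
  set XM : Set G := {x : G | x * x = a * b ∧ x ∈ h.M} with hXM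
  -- upper bound
  have hsub : {x : G | x * x = a * b ∧ x * j = j * x} ⊆ XM ∪ XN := by
    rintro x ⟨hxsq, hxj⟩
    rcases h.dec x hxj with ⟨x₁, hx₁, x₂, hx₂, rfl⟩ | ⟨x₁, hx₁, x₂, hx₂, rfl⟩
    · left; exact ⟨hxsq, x₁, hx₁, x₂, hx₂, rfl⟩
    · right
      refine ⟨hxsq, x₁, hx₁, x₂, hx₂, ?_⟩
      group
  have hup : {x : G | x * x = a * b ∧ x * j = j * x}.ncard ≤ 4 + XN.ncard := by
    calc {x : G | x * x = a * b ∧ x * j = j * x}.ncard ≤ (XM ∪ XN).ncard :=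
          Set.ncard_le_ncard hsub (Set.toFinite _)
      _ ≤ XM.ncard + XN.ncard := Set.ncard_union_le _ _
      _ ≤ 4 + XN.ncard := by
          have h4 : XM.ncard ≤ 4 := h.ncard_XM_le ha hbL haa hbb
          omega
  -- lower bound
  set A4 : Set G := {a, a⁻¹, b, b⁻¹} with hA4
  set φ : G → G := fun x => x * b⁻¹ with hφ
  have hφinj : Function.Injective φ := fun x y hxy => mul_right_cancel hxy
  have hA4M : ∀ y ∈ A4, y ∈ h.M := by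
    intro y hy
    simp only [hA4, Set.mem_insert_iff, Set.mem_singleton_iff] at hy
    rcases hy with rfl | rfl | rfl | rfl
    · exact h.L₁_le_M ha
    · exact h.M.inv_mem (h.L₁_le_M ha)
    · exact h.L₂_le_M hbL
    · exact h.M.inv_mem (h.L₂_le_M hbL)
  have hNM : ∀ y ∈ insert n (φ '' XN), n⁻¹ * y ∈ h.M := by
    intro y hy
    rcases hy with rfl | ⟨x, ⟨hxsq, hxM⟩, rfl⟩
    · rw [inv_mul_cancel]; exact h.M.one_mem
    · exact (h.phi_mem ha hxsq hxM).2.2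
  have hdisj : Disjoint A4 (insert n (φ '' XN)) := by
    rw [Set.disjoint_left]
    intro y hy1 hy2
    apply hnM
    have h1 := hA4M y hy1
    have h2 := hNM y hy2
    have e : y * (n⁻¹ * y)⁻¹ = n := by group
    have hmem : y * (n⁻¹ * y)⁻¹ ∈ h.M := h.M.mul_mem h1 (h.M.inv_mem h2)
    rwa [e] at hmem
  have hnφ : n ∉ φ '' XN := by
    rintro ⟨x, ⟨hxsq, -⟩, hxe⟩
    have hx : x = n * b := by
      simp only [hφ] at hxe
      rw [← hxe]; group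
    rw [hx] at hxsq
    have : (n * b) * (n * b) = j * (a * b) := by
      calc (n * b) * (n * b) = (n * b * n⁻¹) * (n * n) * b := by group
        _ = a * j * b := by rw [hb, h.ss (h.cen₁ ha), h.n2]
        _ = j * a * b := by rw [h.cen₁ ha]
        _ = j * (a * b) := by group
    rw [this] at hxsq
    have : j = 1 := by
      have h3 : j * (a * b) = 1 * (a * b) := by rw [one_mul]; exact hxsq
      exact mul_right_cancel h3
    exact h.j1 this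
  have ia : a⁻¹ * a⁻¹ = j := by
    have : a⁻¹ * a⁻¹ = (a * a)⁻¹ := by group
    rw [this, haa, h.jinv]
  have ib : b⁻¹ * b⁻¹ = j := by
    have : b⁻¹ * b⁻¹ = (b * b)⁻¹ := by group
    rw [this, hbb, h.jinv]
  have hA4card : A4.ncard = 4 := by
    have n1 : a ≠ a⁻¹ := by
      intro e
      have : a * a = 1 := by
        calc a * a = a * a⁻¹ := by rw [← e]
          _ = 1 := by group
      rw [haa] at this; exact h.j1 this
    have n2 : b ≠ b⁻¹ := by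
      intro e
      have : b * b = 1 := by
        calc b * b = b * b⁻¹ := by rw [← e]
          _ = 1 := by group
      rw [hbb] at this; exact h.j1 this
    have key : ∀ t : G, t ∈ L₁ → t ∈ L₂ → t * t = j → False := by
      intro t h1 h2 h3
      rw [h.meet_sq h1 h2] at h3
      exact h.j1 h3.symm
    have n3 : a ≠ b := fun e => key a ha (e ▸ hbL) haa
    have n4 : a ≠ b⁻¹ := fun e => key a ha (e ▸ L₂.inv_mem hbL) haa
    have n5 : a⁻¹ ≠ b := fun e => key b (e ▸ L₁.inv_mem ha) hbL hbb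
    have n6 : a⁻¹ ≠ b⁻¹ := fun e => key a ha (by
      have : a = b := inv_injective e
      exact this ▸ hbL) haa
    rw [hA4, Set.ncard_insert_of_notMem, Set.ncard_insert_of_notMem, Set.ncard_pair n2]
    · simp only [Set.mem_insert_iff, Set.mem_singleton_iff, not_or]
      exact ⟨n5, n6⟩
    · simp only [Set.mem_insert_iff, Set.mem_singleton_iff, not_or]
      exact ⟨n1, n3, n4⟩
  have hYsub : A4 ∪ insert n (φ '' XN) ⊆
      {x : G | x * x = j ∧ x * (a * b) = (a * b) * x} := by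
    intro y hy
    rcases hy with hy | hy
    · simp only [hA4, Set.mem_insert_iff, Set.mem_singleton_iff] at hy
      rcases hy with e | e | e | e
      · rw [e]
        refine ⟨haa, ?_⟩
        calc a * (a * b) = a * (b * a) := by rw [hab]
          _ = a * b * a := by group
      · rw [e]
        refine ⟨ia, ?_⟩
        calc a⁻¹ * (a * b) = b * a * a⁻¹ := by group
          _ = a * b * a⁻¹ := by rw [hab]
      · rw [e]
        refine ⟨hbb, ?_⟩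
        calc b * (a * b) = (b * a) * b := by group
          _ = a * b * b := by rw [hab]
      · rw [e]
        refine ⟨ib, ?_⟩
        calc b⁻¹ * (a * b) = b⁻¹ * (b * a) := by rw [hab]
          _ = a * b * b⁻¹ := by group
    · rcases hy with e | ⟨x, ⟨hxsq, hxM⟩, rfl⟩
      · rw [e]
        refine ⟨h.n2, ?_⟩
        have h1 : n * b * n⁻¹ = a := by rw [hb]; exact h.ss (h.cen₁ ha)
        have : n * (a * b) * n⁻¹ = a * b := by
          rw [s_mul, h1, ← hb, hab]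
        calc n * (a * b) = (n * (a * b) * n⁻¹) * n := by group
          _ = a * b * n := by rw [this]
      · have := h.phi_mem ha hxsq hxM
        exact ⟨this.1, this.2.1⟩
  have hlow : 4 + (1 + XN.ncard) ≤
      {x : G | x * x = j ∧ x * (a * b) = (a * b) * x}.ncard := by
    have e1 : (A4 ∪ insert n (φ '' XN)).ncard = 4 + (1 + XN.ncard) := by
      rw [Set.ncard_union_eq hdisj (Set.toFinite _) (Set.toFinite _), hA4card,
        Set.ncard_insert_of_notMem hnφ (Set.toFinite _),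
        Set.ncard_image_of_injective _ hφinj]
      omega
    rw [← e1]
    exact Set.ncard_le_ncard hYsub (Set.toFinite _)
  omega

/-- **Isolation.** In the abstract Fong-Wong configuration `j` commutes with none of its
other conjugates. -/
theorem isolated [Finite G] (h : Hyp L₁ L₂ j n) : Cfsg.IsIsolatedInvolution j := by
  refine ⟨orderOf_eq_prime (by rw [pow_two]; exact h.j2) h.j1, ?_⟩
  intro g hcomm
  by_contra hne
  have hcomm' : j * (g * j * g⁻¹) = (g * j * g⁻¹) * j := hcomm.eq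
  -- `u = g j g⁻¹` and `u' = g⁻¹ j g`
  have hu2 : (g * j * g⁻¹) * (g * j * g⁻¹) = 1 := by
    calc (g * j * g⁻¹) * (g * j * g⁻¹) = g * (j * j) * g⁻¹ := by group
      _ = 1 := by rw [h.j2]; group
  have hu1 : g * j * g⁻¹ ≠ 1 := by
    intro e
    apply h.j1
    calc j = g⁻¹ * (g * j * g⁻¹) * g := by group
      _ = 1 := by rw [e]; group
  have hu'2 : (g⁻¹ * j * g) * (g⁻¹ * j * g) = 1 := by
    calc (g⁻¹ * j * g) * (g⁻¹ * j * g) = g⁻¹ * (j * j) * g := by group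
      _ = 1 := by rw [h.j2]; group
  have hu'1 : g⁻¹ * j * g ≠ 1 := by
    intro e
    apply h.j1
    calc j = g * (g⁻¹ * j * g) * g⁻¹ := by group
      _ = 1 := by rw [e]; group
  have hu'j : (g⁻¹ * j * g) * j = j * (g⁻¹ * j * g) := by
    calc (g⁻¹ * j * g) * j = g⁻¹ * (j * (g * j * g⁻¹)) * g := by group
      _ = g⁻¹ * ((g * j * g⁻¹) * j) * g := by rw [hcomm']
      _ = j * (g⁻¹ * j * g) := by group
  have hu'ne : g⁻¹ * j * g ≠ j := by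
    intro e
    apply hne
    calc g * j * g⁻¹ = g * (g⁻¹ * j * g) * g⁻¹ := by rw [e]
      _ = j := by group
  obtain ⟨a₁, ha₁, a₂, ha₂, e1, e2, eu⟩ := h.invol_form hcomm'.symm hu2 hu1 hne
  obtain ⟨a₁', ha₁', a₂', ha₂', e1', e2', eu'⟩ := h.invol_form hu'j hu'2 hu'1 hu'ne
  obtain ⟨c, hcj, hc⟩ := h.conj_u0 ha₁ e1 ha₁ ha₂ e1 e2
  obtain ⟨c', hc'j, hc'⟩ := h.conj_u0 ha₁ e1 ha₁' ha₂' e1' e2'
  have hlt := h.count_lt ha₁ e1
  set u₀ := a₁ * (n * a₁ * n⁻¹) with hu₀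
  set t := c' * g⁻¹ * c⁻¹ with ht
  have hcj' : c⁻¹ * j * c = j := by
    calc c⁻¹ * j * c = c⁻¹ * (j * c) := by group
      _ = c⁻¹ * (c * j) := by rw [hcj]
      _ = j := by group
  have hc'j' : c' * j * c'⁻¹ = j := by rw [hc'j]; group
  have ht1 : t * j * t⁻¹ = u₀ := by
    calc t * j * t⁻¹ = c' * (g⁻¹ * (c⁻¹ * j * c) * g) * c'⁻¹ := by rw [ht]; group
      _ = c' * (g⁻¹ * j * g) * c'⁻¹ := by rw [hcj']
      _ = u₀ := by rw [eu', hc']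
  have ht2 : t * u₀ * t⁻¹ = j := by
    have h1 : c⁻¹ * u₀ * c = g * j * g⁻¹ := by
      rw [← hc, eu]; group
    calc t * u₀ * t⁻¹ = c' * (g⁻¹ * (c⁻¹ * u₀ * c) * g) * c'⁻¹ := by rw [ht]; group
      _ = c' * (g⁻¹ * (g * j * g⁻¹) * g) * c'⁻¹ := by rw [h1]
      _ = c' * j * c'⁻¹ := by group
      _ = j := hc'j'
  have hle : {x : G | x * x = j ∧ x * u₀ = u₀ * x}.ncard ≤
      {x : G | x * x = u₀ ∧ x * j = j * x}.ncard := by
    apply Set.ncard_le_ncard_of_injOn (fun y => t * y * t⁻¹)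
    · rintro y ⟨hy1, hy2⟩
      refine ⟨?_, ?_⟩
      · calc (t * y * t⁻¹) * (t * y * t⁻¹) = t * (y * y) * t⁻¹ := by group
          _ = u₀ := by rw [hy1, ht1]
      · calc (t * y * t⁻¹) * j = (t * y * t⁻¹) * (t * u₀ * t⁻¹) := by rw [ht2]
          _ = t * (y * u₀) * t⁻¹ := by group
          _ = t * (u₀ * y) * t⁻¹ := by rw [hy2]
          _ = (t * u₀ * t⁻¹) * (t * y * t⁻¹) := by group
          _ = j * (t * y * t⁻¹) := by rw [ht2]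
    · intro x _ y _ hxy
      simp only at hxy
      have : t⁻¹ * (t * x * t⁻¹) * t = t⁻¹ * (t * y * t⁻¹) * t := by rw [hxy]
      have g1 : ∀ w : G, t⁻¹ * (t * w * t⁻¹) * t = w := fun w => by group
      rwa [g1, g1] at this
  omega

end Hyp

end Cfsg.Agent.Lib.Helper41.FW
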