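/-
helper41: facts about `SL(2, F)` (`F` a field of characteristic not 2) used for the
Fong-Wong lemma S3211: elements whose square is the central involution.
-/
import Mathlib
import Cfsg.Agent.Lib.Helper53.SL2Unipotent

set_option autoImplicit false

namespace Cfsg.Agent.Lib.Helper41.FW

open Matrix Cfsg.Agent.Lib.Helper53

variable {F : Type*} [Field F]

/-- sum of two squares in a finite field of odd order -/
theorem exists_sq_add_sq [Fintype F] (hodd : Fintype.card F % 2 = 1) (c : F) :
    ∃ α β : F, α ^ 2 + β ^ 2 = c := by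
  classical
  have hf : (Polynomial.X ^ 2 : Polynomial F).degree = 2 := by
    rw [Polynomial.degree_X_pow]; rfl
  have hg : (Polynomial.X ^ 2 - Polynomial.C c : Polynomial F).degree = 2 := by
    rw [Polynomial.degree_X_pow_sub_C (by norm_num)]; rfl
  obtain ⟨α, β, h⟩ := FiniteField.exists_root_sum_quadratic hf hg hodd
  refine ⟨α, β, ?_⟩
  simp only [Polynomial.eval_pow, Polynomial.eval_X, Polynomial.eval_sub, Polynomial.eval_C] at h
  linear_combination h

/-- an involution of `SL(2,F)` has the entries of `-1`. -/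
theorem invol_entries (h2 : (2 : F) ≠ 0) (z : Matrix.SpecialLinearGroup (Fin 2) F)
    (hz : z * z = 1) (hz1 : z ≠ 1) :
    z.1 0 0 = -1 ∧ z.1 0 1 = 0 ∧ z.1 1 0 = 0 ∧ z.1 1 1 = -1 :=
  sq_eq_one_entries h2 z hz hz1

/-- trace zero for an element whose square is the involution -/
theorem trace_zero_of_sq (h2 : (2 : F) ≠ 0) (z b : Matrix.SpecialLinearGroup (Fin 2) F)
    (hz : z * z = 1) (hz1 : z ≠ 1) (hb : b * b = z) : b.1 0 0 + b.1 1 1 = 0 := by
  obtain ⟨z00, z01, z10, z11⟩ := invol_entries h2 z hz hz1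
  have hdet := sl2_det b
  have e00 := congrArg (fun m : Matrix.SpecialLinearGroup (Fin 2) F => m.1 0 0) hb
  have e01 := congrArg (fun m : Matrix.SpecialLinearGroup (Fin 2) F => m.1 0 1) hb
  have e10 := congrArg (fun m : Matrix.SpecialLinearGroup (Fin 2) F => m.1 1 0) hb
  have e11 := congrArg (fun m : Matrix.SpecialLinearGroup (Fin 2) F => m.1 1 1) hb
  simp only [sl2_mul_val] at e00 e01 e10 e11
  simp at e00 e01 e10 e11
  rw [z00] at e00; rw [z01] at e01; rw [z10] at e10; rw [z11] at e11
  set p := b.1 0 0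
  set q := b.1 0 1
  set r := b.1 1 0
  set s := b.1 1 1
  by_contra ht
  have hp : p * (p + s) = 0 := by linear_combination e00 + hdet
  have hs : s * (p + s) = 0 := by linear_combination e11 + hdet
  have hq : q * (p + s) = 0 := by linear_combination e01
  have hr : r * (p + s) = 0 := by linear_combination e10
  have p0 : p = 0 := by
    rcases mul_eq_zero.mp hp with h | h
    · exact h
    · exact absurd h ht
  have q0 : q = 0 := by
    rcases mul_eq_zero.mp hq with h | h
    · exact h
    · exact absurd h ht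
  rw [p0, q0] at hdet
  simp at hdet

/-- Cayley-Hamilton for the square, entrywise. -/
theorem sq_entries (y : Matrix.SpecialLinearGroup (Fin 2) F) :
    (y * y).1 0 0 = (y.1 0 0 + y.1 1 1) * y.1 0 0 - 1 ∧
    (y * y).1 0 1 = (y.1 0 0 + y.1 1 1) * y.1 0 1 ∧
    (y * y).1 1 0 = (y.1 0 0 + y.1 1 1) * y.1 1 0 ∧
    (y * y).1 1 1 = (y.1 0 0 + y.1 1 1) * y.1 1 1 - 1 := by
  have hdet := sl2_det y
  simp only [sl2_mul_val]
  refine ⟨?_, ?_, ?_, ?_⟩
  · simp; linear_combination (-1 : F) * hdet
  · simp; ring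
  · simp; ring
  · simp; linear_combination (-1 : F) * hdet

/-- (P2): an element whose square is the involution has at most two square roots. -/
theorem sqrt_unique (h2 : (2 : F) ≠ 0) (z y y' : Matrix.SpecialLinearGroup (Fin 2) F)
    (hz : z * z = 1) (hz1 : z ≠ 1) (hyy : y * y = y' * y') (hb : (y * y) * (y * y) = z) :
    y' = y ∨ y' = z * y := by
  obtain ⟨z00, z01, z10, z11⟩ := invol_entries h2 z hz hz1
  have htr := trace_zero_of_sq h2 z (y * y) hz hz1 hb
  have hb' : (y' * y') * (y' * y') = z := by rw [← hyy]; exact hb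
  have htr' := trace_zero_of_sq h2 z (y' * y') hz hz1 hb'
  obtain ⟨s00, s01, s10, s11⟩ := sq_entries y
  obtain ⟨t00, t01, t10, t11⟩ := sq_entries y'
  have e00 : (y * y).1 0 0 = (y' * y').1 0 0 := by rw [hyy]
  have e01 : (y * y).1 0 1 = (y' * y').1 0 1 := by rw [hyy]
  have e10 : (y * y).1 1 0 = (y' * y').1 1 0 := by rw [hyy]
  have e11 : (y * y).1 1 1 = (y' * y').1 1 1 := by rw [hyy]
  rw [s00, t00] at e00
  rw [s01, t01] at e01
  rw [s10, t10] at e10
  rw [s11, t11] at e11
  rw [s00, s11] at htr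
  rw [t00, t11] at htr'
  set p := y.1 0 0
  set q := y.1 0 1
  set r := y.1 1 0
  set s := y.1 1 1
  set p' := y'.1 0 0
  set q' := y'.1 0 1
  set r' := y'.1 1 0
  set s' := y'.1 1 1
  have hτ : (p + s) ^ 2 = 2 := by linear_combination htr
  have hτ' : (p' + s') ^ 2 = 2 := by linear_combination htr'
  have hτ0 : p' + s' ≠ 0 := by
    intro h
    rw [h] at hτ'
    apply h2
    rw [← hτ']; ring
  have hsq : (p' + s' - (p + s)) * (p' + s' + (p + s)) = 0 := by
    linear_combination hτ' - hτ
  rcases mul_eq_zero.mp hsq with h | h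
  · left
    have hτe : p' + s' = p + s := by linear_combination h
    have hτ0' : p + s ≠ 0 := hτe ▸ hτ0
    apply sl2_ext
    · show p' = p
      apply mul_left_cancel₀ hτ0'
      linear_combination (-1 : F) * e00 - p' * hτe
    · show q' = q
      apply mul_left_cancel₀ hτ0'
      linear_combination (-1 : F) * e01 - q' * hτe
    · show r' = r
      apply mul_left_cancel₀ hτ0'
      linear_combination (-1 : F) * e10 - r' * hτe
    · show s' = s
      apply mul_left_cancel₀ hτ0'
      linear_combination (-1 : F) * e11 - s' * hτe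
  · right
    have hτe : p' + s' = -(p + s) := by linear_combination h
    have hτ0' : p + s ≠ 0 := by
      intro h0
      apply hτ0
      rw [hτe, h0, neg_zero]
    apply sl2_ext
    · rw [sl2_mul_val]
      simp only [Matrix.of_apply, Matrix.cons_val_zero]
      rw [z00, z01]
      show p' = -1 * p + 0 * r
      apply mul_left_cancel₀ hτ0'
      linear_combination (1 : F) * e00 + p' * hτe
    · rw [sl2_mul_val]
      simp only [Matrix.of_apply, Matrix.cons_val_zero, Matrix.cons_val_one]
      rw [z00, z01]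
      show q' = -1 * q + 0 * s
      apply mul_left_cancel₀ hτ0'
      linear_combination (1 : F) * e01 + q' * hτe
    · rw [sl2_mul_val]
      simp only [Matrix.of_apply, Matrix.cons_val_zero, Matrix.cons_val_one]
      rw [z10, z11]
      show r' = 0 * p + -1 * r
      apply mul_left_cancel₀ hτ0'
      linear_combination (1 : F) * e10 + r' * hτe
    · rw [sl2_mul_val]
      simp only [Matrix.of_apply, Matrix.cons_val_zero, Matrix.cons_val_one]
      rw [z10, z11]
      show s' = 0 * q + -1 * s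
      apply mul_left_cancel₀ hτ0'
      linear_combination (1 : F) * e11 + s' * hτe

/-- the standard element of order 4 -/
def Jmat : Matrix.SpecialLinearGroup (Fin 2) F :=
  ⟨!![0, -1; 1, 0], by simp [Matrix.det_fin_two]⟩

theorem Jmat_val : (Jmat : Matrix.SpecialLinearGroup (Fin 2) F).1 = !![0, -1; 1, 0] := rfl

/-- the matrix `[v | a v]` for `v = (x, y)` of determinant one -/
def colMat (a : Matrix.SpecialLinearGroup (Fin 2) F) (x y : F)
    (hQ : x * (a.1 1 0 * x + a.1 1 1 * y) - (a.1 0 0 * x + a.1 0 1 * y) * y = 1) :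
    Matrix.SpecialLinearGroup (Fin 2) F :=
  ⟨!![x, a.1 0 0 * x + a.1 0 1 * y; y, a.1 1 0 * x + a.1 1 1 * y], by
    rw [Matrix.det_fin_two_of]
    linear_combination hQ⟩

theorem colMat_val (a : Matrix.SpecialLinearGroup (Fin 2) F) (x y : F)
    (hQ : x * (a.1 1 0 * x + a.1 1 1 * y) - (a.1 0 0 * x + a.1 0 1 * y) * y = 1) :
    (colMat a x y hQ).1 = !![x, a.1 0 0 * x + a.1 0 1 * y; y, a.1 1 0 * x + a.1 1 1 * y] := rfl

/-- a vector `v = (x,y)` with `det [v | a v] = 1` conjugates `a` to the standard element. -/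
theorem conj_J_of_vec (h2 : (2 : F) ≠ 0) (z a : Matrix.SpecialLinearGroup (Fin 2) F)
    (hz : z * z = 1) (hz1 : z ≠ 1) (ha : a * a = z) (x y : F)
    (hQ : x * (a.1 1 0 * x + a.1 1 1 * y) - (a.1 0 0 * x + a.1 0 1 * y) * y = 1) :
    ∃ P : Matrix.SpecialLinearGroup (Fin 2) F, a * P = P * Jmat := by
  obtain ⟨z00, z01, z10, z11⟩ := invol_entries h2 z hz hz1
  have htr := trace_zero_of_sq h2 z a hz hz1 ha
  have hdet := sl2_det a
  have hs : a.1 1 1 = -a.1 0 0 := by linear_combination htr
  refine ⟨colMat a x y hQ, ?_⟩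
  apply sl2_ext
  · rw [sl2_mul_val, sl2_mul_val]
    simp [Jmat_val, colMat_val]
  · rw [sl2_mul_val, sl2_mul_val]
    simp [Jmat_val, colMat_val]
    linear_combination (a.1 0 0 * x + a.1 0 1 * y) * htr - x * hdet
  · rw [sl2_mul_val, sl2_mul_val]
    simp [Jmat_val, colMat_val]
  · rw [sl2_mul_val, sl2_mul_val]
    simp [Jmat_val, colMat_val]
    linear_combination (a.1 1 0 * x + a.1 1 1 * y) * htr - y * hdet

/-- every element whose square is the involution is conjugate to the standard one. -/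
theorem conj_J [Fintype F] (hodd : Fintype.card F % 2 = 1) (h2 : (2 : F) ≠ 0)
    (z a : Matrix.SpecialLinearGroup (Fin 2) F)
    (hz : z * z = 1) (hz1 : z ≠ 1) (ha : a * a = z) :
    ∃ P : Matrix.SpecialLinearGroup (Fin 2) F, a * P = P * Jmat := by
  have htr := trace_zero_of_sq h2 z a hz hz1 ha
  have hdet := sl2_det a
  have hs : a.1 1 1 = -a.1 0 0 := by linear_combination htr
  by_cases hr : a.1 1 0 = 0
  · -- `a 0 0 ^ 2 = -1`
    have hp2 : a.1 0 0 * a.1 0 0 = -1 := by
      rw [hr, hs] at hdet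
      linear_combination (-1 : F) * hdet
    have hp0 : a.1 0 0 ≠ 0 := by
      intro h0
      rw [h0] at hp2
      simp at hp2
    apply conj_J_of_vec h2 z a hz hz1 ha (-(1 + a.1 0 1) / (2 * a.1 0 0)) 1
    rw [hr, hs]
    field_simp
    ring
  · obtain ⟨α, β, hαβ⟩ := exists_sq_add_sq hodd (a.1 1 0)
    apply conj_J_of_vec h2 z a hz hz1 ha ((α + a.1 0 0 * β) / a.1 1 0) β
    rw [hs]
    field_simp
    rw [hs] at hdet
    linear_combination hαβ + β ^ 2 * hdet

/-- (P3): the elements whose square is the involution are conjugate in `SL(2,F)`. -/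
theorem conj_of_sq [Fintype F] (hodd : Fintype.card F % 2 = 1) (h2 : (2 : F) ≠ 0)
    (z a b : Matrix.SpecialLinearGroup (Fin 2) F)
    (hz : z * z = 1) (hz1 : z ≠ 1) (ha : a * a = z) (hb : b * b = z) :
    ∃ x : Matrix.SpecialLinearGroup (Fin 2) F, x * a * x⁻¹ = b := by
  obtain ⟨P, hP⟩ := conj_J hodd h2 z a hz hz1 ha
  obtain ⟨Q, hQ⟩ := conj_J hodd h2 z b hz hz1 hb
  refine ⟨Q * P⁻¹, ?_⟩
  have h1 : a = P * Jmat * P⁻¹ := by rw [← hP]; group
  have h2' : b = Q * Jmat * Q⁻¹ := by rw [← hQ]; group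
  rw [h1, h2']
  group

end Cfsg.Agent.Lib.Helper41.FW
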