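/-
helper41: the hypotheses of S3211 (Fong-Wong lemma) give the abstract configuration `Hyp`,
hence `j` is isolated.
-/
import Mathlib
import Cfsg.Agent.Lib.Helper41.FW.SL2
import Cfsg.Agent.Lib.Helper41.FW.Iso

set_option autoImplicit false

namespace Cfsg.Agent.Lib.Helper41.FW

open Cfsg.Agent.Lib.Helper53

variable {G : Type*} [Group G]

/-- `SL(2, F)` is not commutative -/
theorem sl2_noncomm (F : Type*) [Field F] :
    ∃ A B : Matrix.SpecialLinearGroup (Fin 2) F, A * B ≠ B * A := by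
  let B : Matrix.SpecialLinearGroup (Fin 2) F := ⟨!![1, 0; 1, 1], by simp [Matrix.det_fin_two]⟩
  have hB : B.1 = !![1, 0; 1, 1] := rfl
  refine ⟨unitri 1, B, ?_⟩
  intro h
  have h00 : (unitri (1 : F) * B).1 0 0 = (B * unitri 1).1 0 0 := by rw [h]
  rw [sl2_mul_val, sl2_mul_val] at h00
  simp [unitri_val, hB] at h00

/-- membership in the join of two elementwise commuting subgroups -/
theorem mem_sup_of_comm {L₁ L₂ : Subgroup G} (hc : ∀ x ∈ L₁, ∀ y ∈ L₂, x * y = y * x)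
    {x : G} (hx : x ∈ L₁ ⊔ L₂) : ∃ x₁ ∈ L₁, ∃ x₂ ∈ L₂, x = x₁ * x₂ := by
  let M : Subgroup G :=
    { carrier := {x | ∃ x₁ ∈ L₁, ∃ x₂ ∈ L₂, x = x₁ * x₂}
      one_mem' := ⟨1, L₁.one_mem, 1, L₂.one_mem, by simp⟩
      mul_mem' := by
        rintro _ _ ⟨x₁, hx₁, x₂, hx₂, rfl⟩ ⟨y₁, hy₁, y₂, hy₂, rfl⟩
        refine ⟨x₁ * y₁, L₁.mul_mem hx₁ hy₁, x₂ * y₂, L₂.mul_mem hx₂ hy₂, ?_⟩
        have hc' := hc y₁ hy₁ x₂ hx₂
        calc x₁ * x₂ * (y₁ * y₂) = x₁ * (x₂ * y₁) * y₂ := by group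
          _ = x₁ * (y₁ * x₂) * y₂ := by rw [hc']
          _ = x₁ * y₁ * (x₂ * y₂) := by group
      inv_mem' := by
        rintro _ ⟨x₁, hx₁, x₂, hx₂, rfl⟩
        refine ⟨x₁⁻¹, L₁.inv_mem hx₁, x₂⁻¹, L₂.inv_mem hx₂, ?_⟩
        have hc' := hc x₁⁻¹ (L₁.inv_mem hx₁) x₂⁻¹ (L₂.inv_mem hx₂)
        rw [mul_inv_rev, hc'] }
  have h1 : L₁ ≤ M := fun y hy => ⟨y, hy, 1, L₂.one_mem, by simp⟩
  have h2 : L₂ ≤ M := fun y hy => ⟨1, L₁.one_mem, y, hy, by simp⟩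
  exact (sup_le h1 h2) hx

/-- the hypotheses of S3211 give the abstract configuration -/
theorem hyp_of_S3211 [Finite G] {F₁ : Type*} [Field F₁] [Fintype F₁]
    (hF₁ : Odd (Fintype.card F₁)) (L₁ L₂ : Subgroup G)
    (e₁ : ↥L₁ ≃* Matrix.SpecialLinearGroup (Fin 2) F₁)
    (hc : ∀ x ∈ L₁, ∀ y ∈ L₂, x * y = y * x) (j : G) (hj : orderOf j = 2)
    (hm : L₁ ⊓ L₂ = Subgroup.zpowers j)
    (hi : (L₁ ⊔ L₂).relIndex (Subgroup.centralizer ({j} : Set G)) = 2) (n : G)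
    (hn : n ∈ Subgroup.centralizer ({j} : Set G))
    (hn2 : n ^ 2 = j) (hswap : L₁.map (MulAut.conj n).toMonoidHom = L₂) :
    Hyp L₁ L₂ j n := by
  have hj2 : j * j = 1 := by
    have := pow_orderOf_eq_one j
    rwa [hj, pow_two] at this
  have hj1 : j ≠ 1 := by
    intro e
    rw [e, orderOf_one] at hj
    omega
  have hjm : j ∈ L₁ ⊓ L₂ := by rw [hm]; exact Subgroup.mem_zpowers j
  have hjL₁ : j ∈ L₁ := (Subgroup.mem_inf.mp hjm).1
  have hjL₂ : j ∈ L₂ := (Subgroup.mem_inf.mp hjm).2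
  have hcen : ∀ x, x ∈ Subgroup.centralizer ({j} : Set G) ↔ x * j = j * x := by
    intro x
    rw [Subgroup.mem_centralizer_iff]
    constructor
    · intro h; exact (h j rfl).symm
    · intro h y hy
      rw [Set.mem_singleton_iff] at hy
      rw [hy]; exact h.symm
  have hnj : n * j = j * n := (hcen n).mp hn
  have hnn : n * n = j := by rw [← pow_two]; exact hn2
  have hmeet : ∀ x, x ∈ L₁ → x ∈ L₂ → x = 1 ∨ x = j := by
    intro x h1 h2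
    have hx : x ∈ Subgroup.zpowers j := by rw [← hm]; exact Subgroup.mem_inf.mpr ⟨h1, h2⟩
    obtain ⟨k, rfl⟩ := Subgroup.mem_zpowers_iff.mp hx
    rw [← zpow_mod_orderOf, hj]
    have hk : k % ((2 : ℕ) : ℤ) = 0 ∨ k % ((2 : ℕ) : ℤ) = 1 := by omega
    rcases hk with e | e
    · left; rw [e]; simp
    · right; rw [e]; simp
  have hsw₁ : ∀ x ∈ L₁, n * x * n⁻¹ ∈ L₂ := by
    intro x hx
    rw [← hswap]
    exact Subgroup.mem_map.mpr ⟨x, hx, by simp [MulAut.conj_apply]⟩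
  have hsw₂ : ∀ x ∈ L₂, n * x * n⁻¹ ∈ L₁ := by
    intro x hx
    rw [← hswap] at hx
    obtain ⟨y, hy, rfl⟩ := Subgroup.mem_map.mp hx
    have hyj : y * j = j * y := hc y hy j hjL₂
    have : n * ((MulAut.conj n).toMonoidHom y) * n⁻¹ = y := by
      simp only [MulEquiv.toMonoidHom_eq_coe, MonoidHom.coe_coe, MulAut.conj_apply]
      have h1 : n * (n * y * n⁻¹) * n⁻¹ = (n * n) * y * (n * n)⁻¹ := by group
      rw [h1, hnn, mul_inv_eq_iff_eq_mul, hyj]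
    rw [this]; exact hy
  -- the involution of `SL(2, F₁)`
  have h2F : (2 : F₁) ≠ 0 := by
    apply Ring.two_ne_zero
    intro hchar
    have := FiniteField.even_card_iff_char_two.mp hchar
    rw [Nat.odd_iff] at hF₁
    omega
  have hoddF : Fintype.card F₁ % 2 = 1 := Nat.odd_iff.mp hF₁
  set J := e₁ ⟨j, hjL₁⟩ with hJ
  have hJ2 : J * J = 1 := by
    rw [hJ, ← map_mul]
    have : (⟨j, hjL₁⟩ : ↥L₁) * ⟨j, hjL₁⟩ = 1 := Subtype.ext hj2
    rw [this, map_one]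
  have hJ1 : J ≠ 1 := by
    intro e
    have : (⟨j, hjL₁⟩ : ↥L₁) = 1 := e₁.injective (by rw [← hJ, e, map_one])
    exact hj1 (congrArg Subtype.val this)
  -- `n ∉ L₁ ⊔ L₂`
  have hnM : n ∉ L₁ ⊔ L₂ := by
    intro hnM
    obtain ⟨m₁, hm₁, m₂, hm₂, rfl⟩ := mem_sup_of_comm hc hnM
    -- then `L₁ ≤ L₂`, so `L₁` is commutative
    have hsub : ∀ x ∈ L₁, x ∈ L₂ := by
      intro x hx
      have h1 : m₁⁻¹ * x * m₁ ∈ L₁ := L₁.mul_mem (L₁.mul_mem (L₁.inv_mem hm₁) hx) hm₁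
      have h2 := hsw₁ _ h1
      have hcy := hc _ h1 m₂ hm₂
      have : m₁ * m₂ * (m₁⁻¹ * x * m₁) * (m₁ * m₂)⁻¹ = x := by
        calc m₁ * m₂ * (m₁⁻¹ * x * m₁) * (m₁ * m₂)⁻¹
            = m₁ * (m₂ * (m₁⁻¹ * x * m₁)) * m₂⁻¹ * m₁⁻¹ := by group
          _ = m₁ * ((m₁⁻¹ * x * m₁) * m₂) * m₂⁻¹ * m₁⁻¹ := by rw [← hcy]
          _ = x := by group
      rwa [this] at h2
    obtain ⟨A, B, hAB⟩ := sl2_noncomm F₁
    apply hAB
    have h1 := hc (e₁.symm A).1 (e₁.symm A).2 (e₁.symm B).1 (hsub _ (e₁.symm B).2)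
    have h2 : e₁.symm A * e₁.symm B = e₁.symm B * e₁.symm A := Subtype.ext h1
    have h3 := congrArg e₁ h2
    simpa using h3
  have hdec : ∀ x, x * j = j * x → (∃ x₁ ∈ L₁, ∃ x₂ ∈ L₂, x = x₁ * x₂) ∨
      (∃ x₁ ∈ L₁, ∃ x₂ ∈ L₂, x = n * (x₁ * x₂)) := by
    intro x hx
    by_cases hxM : x ∈ L₁ ⊔ L₂
    · left; exact mem_sup_of_comm hc hxM
    · right
      have hxC : x ∈ Subgroup.centralizer ({j} : Set G) := (hcen x).mpr hx
      have hidx : ((L₁ ⊔ L₂).subgroupOf (Subgroup.centralizer ({j} : Set G))).index = 2 := hi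
      have key := Subgroup.mul_mem_iff_of_index_two hidx
        (a := (⟨n⁻¹, (Subgroup.centralizer ({j} : Set G)).inv_mem hn⟩ :
          ↥(Subgroup.centralizer ({j} : Set G))))
        (b := (⟨x, hxC⟩ : ↥(Subgroup.centralizer ({j} : Set G))))
      simp only [Subgroup.mem_subgroupOf, Subgroup.coe_mul] at key
      have h1 : ¬ n⁻¹ ∈ L₁ ⊔ L₂ := fun h => hnM (by simpa using (L₁ ⊔ L₂).inv_mem h)
      have h2 : n⁻¹ * x ∈ L₁ ⊔ L₂ := key.mpr ⟨fun h => absurd h h1, fun h => absurd h hxM⟩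
      obtain ⟨x₁, hx₁, x₂, hx₂, e⟩ := mem_sup_of_comm hc h2
      refine ⟨x₁, hx₁, x₂, hx₂, ?_⟩
      rw [← e]; group
  refine
    { j2 := hj2
      j1 := hj1
      jL₁ := hjL₁
      jL₂ := hjL₂
      comm := hc
      meet := hmeet
      nj := hnj
      n2 := hnn
      sw₁ := hsw₁
      sw₂ := hsw₂
      dec := hdec
      P1 := ?_
      P2 := ?_
      P3 := ?_ }
  · intro y hy hyy
    by_cases hy1 : y = 1
    · left; exact hy1
    · right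
      have hY2 : e₁ ⟨y, hy⟩ * e₁ ⟨y, hy⟩ = 1 := by
        rw [← map_mul]
        have : (⟨y, hy⟩ : ↥L₁) * ⟨y, hy⟩ = 1 := Subtype.ext hyy
        rw [this, map_one]
      have hY1 : e₁ ⟨y, hy⟩ ≠ 1 := by
        intro e
        have : (⟨y, hy⟩ : ↥L₁) = 1 := e₁.injective (by rw [e, map_one])
        exact hy1 (congrArg Subtype.val this)
      have := sq_eq_one_unique h2F _ _ hY2 hY1 hJ2 hJ1
      have h3 : (⟨y, hy⟩ : ↥L₁) = ⟨j, hjL₁⟩ := e₁.injective this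
      exact congrArg Subtype.val h3
  · intro y hy y' hy' heq h4
    have hE : e₁ ⟨y, hy⟩ * e₁ ⟨y, hy⟩ = e₁ ⟨y', hy'⟩ * e₁ ⟨y', hy'⟩ := by
      rw [← map_mul, ← map_mul]
      congr 1
      exact Subtype.ext heq
    have hE4 : (e₁ ⟨y, hy⟩ * e₁ ⟨y, hy⟩) * (e₁ ⟨y, hy⟩ * e₁ ⟨y, hy⟩) = J := by
      rw [hJ, ← map_mul, ← map_mul]
      congr 1
      exact Subtype.ext h4
    rcases sqrt_unique h2F J _ _ hJ2 hJ1 hE hE4 with r | r
    · left
      exact congrArg Subtype.val (e₁.injective r)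
    · right
      have : e₁ ⟨y', hy'⟩ = e₁ (⟨j, hjL₁⟩ * ⟨y, hy⟩) := by rw [map_mul]; exact r
      exact congrArg Subtype.val (e₁.injective this)
  · intro a ha b hb haa hbb
    have hA : e₁ ⟨a, ha⟩ * e₁ ⟨a, ha⟩ = J := by
      rw [hJ, ← map_mul]
      congr 1
      exact Subtype.ext haa
    have hB : e₁ ⟨b, hb⟩ * e₁ ⟨b, hb⟩ = J := by
      rw [hJ, ← map_mul]
      congr 1
      exact Subtype.ext hbb
    obtain ⟨X, hX⟩ := conj_of_sq hoddF h2F J _ _ hJ2 hJ1 hA hB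
    refine ⟨(e₁.symm X).1, (e₁.symm X).2, ?_⟩
    have h1 : e₁ (e₁.symm X * ⟨a, ha⟩ * (e₁.symm X)⁻¹) = e₁ ⟨b, hb⟩ := by
      rw [map_mul, map_mul, map_inv, MulEquiv.apply_symm_apply]
      exact hX
    exact congrArg Subtype.val (e₁.injective h1)

end Cfsg.Agent.Lib.Helper41.FW
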